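import Mathlib.RingTheory.MvPolynomial.Homogeneous
import Mathlib.RingTheory.Polynomial.Basic
import Mathlib.Data.Fin.Tuple.Basic
import Mathlib.Algebra.BigOperators.Fin

/-!
# Vanishing of the augmented Čech complex of a graded module in high degrees

For homogeneous ideals `P`, `Q` of `B[X_i : i ∈ ι]` with `P` finitely generated, the augmented
Čech complex of the graded module `P/Q` on the variables is exact in all large degrees.  A cochain
is written with a common denominator `X_t ^ N` and only its numerators are recorded.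
-/

universe u v

namespace GrothLib.GrCech

open MvPolynomial

variable {B : Type u} [CommRing B] {ι : Type v}

local notation "S" => MvPolynomial ι B

/-- The product of the variables of a tuple. -/
noncomputable def mon {p : ℕ} (t : Fin p → ι) : S := ∏ k, X (t k)

/-- An ideal stable under homogeneous components. -/
def Homog (I : Ideal S) : Prop := ∀ f ∈ I, ∀ n, homogeneousComponent n f ∈ I

/-- Numerators of a cochain in degree `d` with denominators `X_t ^ N`. -/
def IsCochain (P : Ideal S) (N p d : ℕ) (c : (Fin p → ι) → S) : Prop :=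
  ∀ t, c t ∈ P ∧ (c t).IsHomogeneous (d + p * N)

/-- A cochain that is zero in the localisations of `S/Q`. -/
def Null (Q : Ideal S) {p : ℕ} (c : (Fin p → ι) → S) : Prop := ∀ t, ∃ e : ℕ, mon t ^ e * c t ∈ Q

/-- The differential. -/
noncomputable def dd (N : ℕ) {p : ℕ} (c : (Fin p → ι) → S) (t : Fin (p + 1) → ι) : S :=
  ∑ k : Fin (p + 1), (-1 : S) ^ (k : ℕ) * X (t k) ^ N * c (t ∘ k.succAbove)

/-- Change of the denominators. -/
noncomputable def shift (e : ℕ) {p : ℕ} (c : (Fin p → ι) → S) (t : Fin p → ι) : S :=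
  mon t ^ e * c t

/-- A cochain is a boundary up to null cochains and change of denominators. -/
def Bdry (P Q : Ideal S) (N d : ℕ) : {p : ℕ} → ((Fin p → ι) → S) → Prop
  | 0, c => ∀ t, c t ∈ Q
  | p + 1, c => ∃ e b, IsCochain P (N + e) p d b ∧ Null Q (fun t ↦ shift e c t - dd (N + e) b t)

/-- Exactness of the augmented complex in degree `d`. -/
def Vanish (P Q : Ideal S) (d : ℕ) : Prop :=
  ∀ (p N : ℕ) (c : (Fin p → ι) → S), IsCochain P N p d c → Null Q (dd N c) → Bdry P Q N d c

theorem mon_eq_mul {p : ℕ} (t : Fin (p + 1) → ι) (k : Fin (p + 1)) :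
    (mon t : S) = X (t k) * mon (t ∘ k.succAbove) := by
  simp only [mon]
  rw [Fin.prod_univ_succAbove _ k]
  rfl

theorem mon_cons {p : ℕ} (a : ι) (t : Fin p → ι) : (mon (Fin.cons a t) : S) = X a * mon t := by
  simp [mon, Fin.prod_univ_succ]

theorem isHomogeneous_mon {p : ℕ} (t : Fin p → ι) : (mon t : S).IsHomogeneous p := by
  have := IsHomogeneous.prod Finset.univ (fun k ↦ (X (t k) : S)) (fun _ ↦ 1)
    fun k _ ↦ isHomogeneous_X B (t k)
  simpa [mon] using this

theorem dd_shift (N e : ℕ) {p : ℕ} (c : (Fin p → ι) → S) :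
    dd (N + e) (shift e c) = shift e (dd N c) := by
  funext t
  simp only [dd, shift, Finset.mul_sum]
  refine Finset.sum_congr rfl fun k _ ↦ ?_
  rw [mon_eq_mul t k, mul_pow, pow_add]
  ring

theorem dd_add (N : ℕ) {p : ℕ} (c c' : (Fin p → ι) → S) :
    dd N (fun t ↦ c t + c' t) = fun t ↦ dd N c t + dd N c' t := by
  funext t
  simp only [dd, mul_add, Finset.sum_add_distrib]

theorem dd_sub (N : ℕ) {p : ℕ} (c c' : (Fin p → ι) → S) :
    dd N (fun t ↦ c t - c' t) = fun t ↦ dd N c t - dd N c' t := by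
  funext t
  simp only [dd, mul_sub, Finset.sum_sub_distrib]

theorem dd_smul (N : ℕ) {p : ℕ} (a : S) (c : (Fin p → ι) → S) :
    dd N (fun t ↦ a * c t) = fun t ↦ a * dd N c t := by
  funext t
  simp only [dd, Finset.mul_sum]
  exact Finset.sum_congr rfl fun k _ ↦ by ring

theorem dd_zero (N : ℕ) {p : ℕ} : dd N (fun _ : Fin p → ι ↦ (0 : S)) = fun _ ↦ 0 := by
  funext t
  simp [dd]

/-- The differential on a tuple with a prescribed first entry. -/
theorem dd_cons (N : ℕ) {p : ℕ} (c : (Fin (p + 1) → ι) → S) (a : ι) (t : Fin (p + 1) → ι) :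
    dd N c (Fin.cons a t) = X a ^ N * c t - dd N (fun s ↦ c (Fin.cons a s)) t := by
  rw [dd, Fin.sum_univ_succ]
  simp only [Fin.val_zero, pow_zero, one_mul, Fin.cons_zero, Fin.succAbove_zero, Fin.cons_comp_succ,
    Fin.val_succ, Fin.cons_succ, sub_eq_add_neg, dd, ← Finset.sum_neg_distrib]
  congr 1
  refine Finset.sum_congr rfl fun k _ ↦ ?_
  rw [Fin.cons_comp_succ_succAbove, pow_succ, show k.removeNth t = t ∘ k.succAbove from rfl]
  ring

theorem dd_dd (N : ℕ) {p : ℕ} (c : (Fin p → ι) → S) : dd N (dd N c) = fun _ ↦ 0 := by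
  induction p with
  | zero =>
    funext t
    have h : ∀ s s' : Fin 0 → ι, c s = c s' := fun s s' ↦ congrArg c (Subsingleton.elim _ _)
    simp only [dd, Fin.sum_univ_succ, Fin.sum_univ_zero, Fin.val_zero, Fin.val_succ, pow_zero,
      Function.comp_apply]
    simp only [h _ (fun i ↦ i.elim0), show Fin.succAbove (0 : Fin (0 + 1 + 1)) (0 : Fin (0 + 1)) = Fin.succ 0 from rfl,
      show Fin.succAbove (Fin.succ 0 : Fin (0 + 1 + 1)) (0 : Fin (0 + 1)) = 0 from rfl]
    ring
  | succ p ih =>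
    funext t
    rw [← Fin.cons_self_tail t, dd_cons N (dd N c) (t 0) (Fin.tail t)]
    have : (fun s ↦ dd N c (Fin.cons (t 0) s)) =
        fun s ↦ X (t 0) ^ N * c s - dd N (fun r ↦ c (Fin.cons (t 0) r)) s :=
      funext fun s ↦ dd_cons N c (t 0) s
    rw [this, dd_sub, dd_smul]
    simp only [ih]
    ring

theorem isCochain_shift {P : Ideal S} {N p d : ℕ} {c : (Fin p → ι) → S} (e : ℕ)
    (hc : IsCochain P N p d c) : IsCochain P (N + e) p d (shift e c) := fun t ↦
  ⟨Ideal.mul_mem_left _ _ (hc t).1, by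
    have := ((isHomogeneous_mon (B := B) t).pow e).mul (hc t).2
    rwa [show d + p * (N + e) = p * e + (d + p * N) by ring]⟩

theorem isCochain_dd {P : Ideal S} {N p d : ℕ} {c : (Fin p → ι) → S}
    (hc : IsCochain P N p d c) : IsCochain P N (p + 1) d (dd N c) := fun t ↦ by
  refine ⟨Ideal.sum_mem _ fun k _ ↦ Ideal.mul_mem_left _ _ (hc _).1,
    IsHomogeneous.sum _ _ _ fun k _ ↦ ?_⟩
  have h := (((isHomogeneous_C ι ((-1 : B) ^ (k : ℕ))).mul (isHomogeneous_X_pow (R := B) (t k) N))).mul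
    (hc (t ∘ k.succAbove)).2
  rw [map_pow, map_neg, map_one] at h
  rwa [show d + (p + 1) * N = 0 + N + (d + p * N) by ring]

theorem IsCochain.sub {P : Ideal S} {N p d : ℕ} {c c' : (Fin p → ι) → S} (hc : IsCochain P N p d c)
    (hc' : IsCochain P N p d c') : IsCochain P N p d fun t ↦ c t - c' t :=
  fun t ↦ ⟨P.sub_mem (hc t).1 (hc' t).1, (hc t).2.sub (hc' t).2⟩

theorem IsCochain.add {P : Ideal S} {N p d : ℕ} {c c' : (Fin p → ι) → S} (hc : IsCochain P N p d c)
    (hc' : IsCochain P N p d c') : IsCochain P N p d fun t ↦ c t + c' t :=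
  fun t ↦ ⟨P.add_mem (hc t).1 (hc' t).1, (hc t).2.add (hc' t).2⟩

theorem Null.exists_uniform [Finite ι] {Q : Ideal S} {p : ℕ} {c : (Fin p → ι) → S}
    (h : Null Q c) : ∃ e, ∀ t, mon t ^ e * c t ∈ Q := by
  cases nonempty_fintype ι
  choose e he using h
  refine ⟨Finset.univ.sup e, fun t ↦ ?_⟩
  rw [← Nat.sub_add_cancel (Finset.le_sup (f := e) (Finset.mem_univ t)), pow_add, mul_assoc]
  exact Q.mul_mem_left _ (he t)

theorem Null.add {Q : Ideal S} {p : ℕ} {c c' : (Fin p → ι) → S} (h : Null Q c) (h' : Null Q c') :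
    Null Q fun t ↦ c t + c' t := fun t ↦ by
  obtain ⟨e, he⟩ := h t
  obtain ⟨e', he'⟩ := h' t
  refine ⟨e + e', ?_⟩
  rw [mul_add, pow_add]
  refine Q.add_mem ?_ ?_
  · rw [mul_comm (mon t ^ e), mul_assoc]; exact Q.mul_mem_left _ he
  · rw [mul_assoc]; exact Q.mul_mem_left _ he'

theorem Null.neg {Q : Ideal S} {p : ℕ} {c : (Fin p → ι) → S} (h : Null Q c) :
    Null Q fun t ↦ -c t := fun t ↦ by
  obtain ⟨e, he⟩ := h t
  exact ⟨e, by simpa using Q.neg_mem he⟩

theorem Null.smul {Q : Ideal S} {p : ℕ} {c : (Fin p → ι) → S} (a : S) (h : Null Q c) :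
    Null Q fun t ↦ a * c t := fun t ↦ by
  obtain ⟨e, he⟩ := h t
  exact ⟨e, by rw [mul_left_comm]; exact Q.mul_mem_left _ he⟩

theorem Null.shift {Q : Ideal S} {p : ℕ} {c : (Fin p → ι) → S} (n : ℕ) (h : Null Q c) :
    Null Q (shift n c) := fun t ↦ by
  obtain ⟨e, he⟩ := h t
  exact ⟨e, by rw [GrCech.shift, mul_left_comm]; exact Q.mul_mem_left _ he⟩

theorem Null.of_shift {Q : Ideal S} {p : ℕ} {c : (Fin p → ι) → S} {n : ℕ}
    (h : Null Q (GrCech.shift n c)) : Null Q c := fun t ↦ by
  obtain ⟨e, he⟩ := h t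
  exact ⟨e + n, by rw [pow_add, mul_assoc]; exact he⟩

theorem Null.dd {Q : Ideal S} {p : ℕ} {c : (Fin p → ι) → S} (N : ℕ) (h : Null Q c) :
    Null Q (GrCech.dd N c) := fun t ↦ by
  choose e he using fun k : Fin (p + 1) ↦ h (t ∘ k.succAbove)
  refine ⟨Finset.univ.sup e, ?_⟩
  rw [GrCech.dd, Finset.mul_sum]
  refine Q.sum_mem fun k _ ↦ ?_
  rw [← Nat.sub_add_cancel (Finset.le_sup (f := e) (Finset.mem_univ k)), pow_add]
  have h' := Q.mul_mem_left ((-1 : S) ^ (k : ℕ) * X (t k) ^ N * X (t k) ^ e k *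
    mon t ^ (Finset.univ.sup e - e k)) (he k)
  convert h' using 1
  conv_lhs => arg 1; arg 2; rw [mon_eq_mul t k]
  ring

theorem shift_shift {p : ℕ} (e e' : ℕ) (c : (Fin p → ι) → S) :
    shift e' (shift e c) = shift (e' + e) c := by
  funext t
  rw [shift, shift, shift, ← mul_assoc, ← pow_add]

theorem bdry_of_shift {P Q : Ideal S} {N d p e : ℕ} {c : (Fin (p + 1) → ι) → S}
    (h : Bdry P Q (N + e) d (shift e c)) : Bdry P Q N d c := by
  obtain ⟨e', b, hb, hn⟩ := h
  refine ⟨e' + e, b, ?_, ?_⟩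
  · rwa [show N + (e' + e) = N + e + e' by ring]
  · rw [show N + (e' + e) = N + e + e' by ring]
    simpa only [shift_shift] using hn

theorem homogeneousComponent_X_mul_succ (j : ι) (a : S) (n : ℕ) :
    homogeneousComponent (n + 1) (X j * a) = X j * homogeneousComponent n a := by
  conv_lhs => rw [← sum_homogeneousComponent a]
  rw [Finset.mul_sum, map_sum]
  have h : ∀ i, homogeneousComponent (n + 1) (X j * homogeneousComponent i a) =
      if i = n then X j * homogeneousComponent i a else 0 := fun i ↦ by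
    rw [homogeneousComponent_of_mem (n := 1 + i)
      ((isHomogeneous_X B j).mul (homogeneousComponent_isHomogeneous i a))]
    by_cases hi : i = n
    · subst hi; simp [add_comm]
    · rw [if_neg hi, if_neg (by omega)]
  simp_rw [h]
  rw [Finset.sum_ite_eq']
  by_cases hn : n ∈ Finset.range (a.totalDegree + 1)
  · rw [if_pos hn]
  · rw [if_neg hn, homogeneousComponent_eq_zero n a (by simpa using hn), mul_zero]

theorem homogeneousComponent_zero_X_mul (j : ι) (a : S) :
    homogeneousComponent 0 (X j * a) = 0 := by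
  rw [homogeneousComponent_zero]
  simp [← constantCoeff_eq]

/-- The kernel of multiplication by a variable. -/
noncomputable def kerX (P Q : Ideal S) (j : ι) : Ideal S where
  carrier := {a | a ∈ P ∧ X j * a ∈ Q}
  add_mem' ha hb := ⟨P.add_mem ha.1 hb.1, by rw [mul_add]; exact Q.add_mem ha.2 hb.2⟩
  zero_mem' := ⟨P.zero_mem, by rw [mul_zero]; exact Q.zero_mem⟩
  smul_mem' r a ha := ⟨P.mul_mem_left r ha.1, by
    rw [smul_eq_mul, mul_left_comm]; exact Q.mul_mem_left r ha.2⟩

theorem mem_kerX {P Q : Ideal S} {j : ι} {a : S} : a ∈ kerX P Q j ↔ a ∈ P ∧ X j * a ∈ Q := Iff.rfl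

/-- The image of multiplication by a variable, plus `Q`. -/
noncomputable def imX (P Q : Ideal S) (j : ι) : Ideal S := Ideal.span {X j} * P ⊔ Q

theorem mem_imX {P Q : Ideal S} {j : ι} {f : S} :
    f ∈ imX P Q j ↔ ∃ a ∈ P, ∃ q ∈ Q, X j * a + q = f := by
  simp only [imX, Submodule.mem_sup, Ideal.mem_span_singleton_mul]
  constructor
  · rintro ⟨_, ⟨a, ha, rfl⟩, q, hq, rfl⟩; exact ⟨a, ha, q, hq, rfl⟩
  · rintro ⟨a, ha, q, hq, rfl⟩; exact ⟨_, ⟨a, ha, rfl⟩, q, hq, rfl⟩

theorem homog_kerX {P Q : Ideal S} (hP : Homog P) (hQ : Homog Q) (j : ι) : Homog (kerX P Q j) := by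
  intro f hf n
  rw [mem_kerX] at hf ⊢
  refine ⟨hP f hf.1 n, ?_⟩
  rw [← homogeneousComponent_X_mul_succ]
  exact hQ _ hf.2 _

theorem homog_imX {P Q : Ideal S} (hP : Homog P) (hQ : Homog Q) (j : ι) : Homog (imX P Q j) := by
  intro f hf n
  obtain ⟨a, ha, q, hq, rfl⟩ := mem_imX.1 hf
  rw [map_add]
  cases n with
  | zero =>
    rw [homogeneousComponent_zero_X_mul, zero_add]
    exact (le_sup_right : Q ≤ imX P Q j) (hQ q hq 0)
  | succ n =>
    rw [homogeneousComponent_X_mul_succ]
    exact mem_imX.2 ⟨_, hP a ha n, _, hQ q hq _, rfl⟩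

theorem exists_decomp {P Q : Ideal S} (hP : Homog P) (hQ : Homog Q) {j : ι} {f : S} {m : ℕ}
    (hf : f ∈ imX P Q j) (hm : f.IsHomogeneous (m + 1)) :
    ∃ a ∈ P, a.IsHomogeneous m ∧ f - X j * a ∈ Q := by
  obtain ⟨a, ha, q, hq, rfl⟩ := mem_imX.1 hf
  refine ⟨homogeneousComponent m a, hP a ha m, homogeneousComponent_isHomogeneous m a, ?_⟩
  nth_rw 1 [← homogeneousComponent_eq_self hm]
  rw [map_add, homogeneousComponent_X_mul_succ, add_sub_cancel_left]
  exact hQ q hq _

/-- Dividing by a variable. -/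
theorem bdry_of_bdry_X_mul [Finite ι] {P Q : Ideal S} (hP : Homog P) (hQ : Homog Q) (j : ι) {d : ℕ}
    (hK : Vanish (kerX P Q j) Q d) (hI : Vanish P (imX P Q j) (d + 1))
    {p N : ℕ} {c : (Fin p → ι) → S} (hc : IsCochain P N p d c) (hd : Null Q (dd N c))
    (hx : Bdry P Q N (d + 1) fun t ↦ X j * c t) : Bdry P Q N d c := by
  have hQI : Q ≤ imX P Q j := le_sup_right
  cases p with
  | zero => exact hK 0 N c (fun t ↦ ⟨mem_kerX.2 ⟨(hc t).1, hx t⟩, (hc t).2⟩) hd
  | succ p =>
    obtain ⟨e, b, hb, hn⟩ := hx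
    refine bdry_of_shift (e := e) ?_
    -- now the cochain `c₁` with the denominators of `b`
    have hc₁ := isCochain_shift e hc
    have hd₁ : Null Q (dd (N + e) (shift e c)) := by rw [dd_shift]; exact hd.shift e
    have hn₁ : Null Q fun t ↦ X j * shift e c t - dd (N + e) b t := fun t ↦ by
      obtain ⟨k, hk⟩ := hn t
      refine ⟨k, ?_⟩
      simpa only [shift, mul_left_comm (mon t ^ e) (X j)] using hk
    generalize shift e c = c₁ at hc₁ hd₁ hn₁
    generalize N + e = N₁ at hb hc₁ hd₁ hn₁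
    clear hc hd hn c
    suffices ∃ k, ∃ a : (Fin p → ι) → S, IsCochain P (N₁ + k) p d a ∧
        Null Q fun t ↦ X j * (shift k c₁ t - dd (N₁ + k) a t) by
      obtain ⟨k, a, ha, hna⟩ := this
      refine bdry_of_shift (e := k) ?_
      obtain ⟨l, hl⟩ := hna.exists_uniform
      obtain ⟨r, bK, hbK, hnK⟩ := hK (p + 1) (N₁ + k + l)
        (shift l fun t ↦ shift k c₁ t - dd (N₁ + k) a t)
        (fun t ↦ ⟨mem_kerX.2 ⟨(isCochain_shift l ((isCochain_shift k hc₁).sub (isCochain_dd ha)) t).1, by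
            rw [shift, mul_left_comm]; exact hl t⟩,
          (isCochain_shift l ((isCochain_shift k hc₁).sub (isCochain_dd ha)) t).2⟩)
        (by
          rw [dd_shift, dd_sub, dd_dd, dd_shift]
          simpa using (hd₁.shift k).shift l)
      refine ⟨r + l, fun t ↦ shift (r + l) a t + bK t, ?_, fun t ↦ ?_⟩
      · refine (isCochain_shift (r + l) ha).add ?_
        rw [show N₁ + k + (r + l) = N₁ + k + l + r by ring]
        exact fun t ↦ ⟨(mem_kerX.1 (hbK t).1).1, (hbK t).2⟩
      · obtain ⟨m, hm⟩ := hnK t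
        refine ⟨m, ?_⟩
        simp only [dd_add, dd_shift]
        rw [show N₁ + k + (r + l) = N₁ + k + l + r by ring]
        convert hm using 2
        simp only [shift, pow_add]
        ring
    have hnI : Null (imX P Q j) (dd N₁ b) := fun t ↦ by
      obtain ⟨k, hk⟩ := hn₁ t
      refine ⟨k, ?_⟩
      rw [show mon t ^ k * dd N₁ b t =
        X j * (mon t ^ k * c₁ t) + -(mon t ^ k * (X j * c₁ t - dd N₁ b t)) by ring]
      exact mem_imX.2 ⟨_, P.mul_mem_left _ (hc₁ t).1, _, Q.neg_mem hk, rfl⟩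
    have hbI := hI p N₁ b hb hnI
    cases p with
    | zero =>
      have hdec := fun t ↦ exists_decomp hP hQ (m := d) (hbI t) (by simpa using (hb t).2)
      choose a ha hah haq using hdec
      refine ⟨0, a, fun t ↦ ⟨ha t, by simpa using hah t⟩, ?_⟩
      have hq : Null Q fun t ↦ b t - X j * a t := fun t ↦ ⟨0, by simpa using haq t⟩
      intro t
      obtain ⟨k, hk⟩ := (hn₁.add (hq.dd N₁)) t
      refine ⟨k, ?_⟩
      convert hk using 2
      simp only [dd_sub, dd_smul, shift, Nat.add_zero, pow_zero, one_mul]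
      ring
    | succ p =>
      obtain ⟨k, f, hf, hnf⟩ := hbI
      obtain ⟨l, hl⟩ := hnf.exists_uniform
      have hw := isCochain_shift l ((isCochain_shift k hb).sub (isCochain_dd hf))
      have hdec := fun t ↦ exists_decomp hP hQ (m := d + (p + 1) * (N₁ + k + l)) (hl t)
        (by have := (hw t).2; rwa [show d + 1 + (p + 1) * (N₁ + k + l) =
          d + (p + 1) * (N₁ + k + l) + 1 by ring] at this)
      choose a ha hah haq using hdec
      refine ⟨k + l, a, fun t ↦ ⟨ha t, by rw [← add_assoc]; exact hah t⟩, ?_⟩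
      have hq : Null Q fun t ↦ shift l (fun t ↦ shift k b t - dd (N₁ + k) f t) t - X j * a t :=
        fun t ↦ ⟨0, by simpa [shift] using haq t⟩
      intro t
      obtain ⟨m, hm⟩ := ((hn₁.shift (k + l)).add (hq.dd (N₁ + k + l))) t
      refine ⟨m, ?_⟩
      convert hm using 2
      have key : dd (N₁ + k + l) (fun t ↦ shift l (fun t ↦ shift k b t - dd (N₁ + k) f t) t) t =
          shift (k + l) (dd N₁ b) t := by
        rw [dd_shift, dd_sub, dd_dd, dd_shift]
        simp only [sub_zero, add_comm k l]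
        rw [← shift_shift k l]
      simp only [dd_sub, dd_smul, key, ← add_assoc]
      simp only [shift]
      ring

theorem exists_bdry_pow_X_mul [Finite ι] {P Q : Ideal S} (j : ι) {d p N : ℕ}
    {c : (Fin p → ι) → S} (hc : IsCochain P N p d c) (hd : Null Q (dd N c)) :
    ∃ m, Bdry P Q N (d + m) fun t ↦ X j ^ m * c t := by
  obtain ⟨e, he⟩ := hd.exists_uniform
  cases p with
  | zero =>
    refine ⟨e + N, fun t ↦ ?_⟩
    have h := he (Fin.cons j t)
    simp only [mon_cons, dd, Fin.sum_univ_succ, Fin.sum_univ_zero, add_zero, Fin.val_zero, pow_zero, one_mul, Fin.cons_zero] at h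
    rw [show mon t = (1 : S) by simp [mon], mul_one,
      show Fin.cons j t ∘ Fin.succAbove (0 : Fin 1) = t from Subsingleton.elim _ _] at h
    simp only [pow_add, mul_assoc]
    exact h
  | succ p =>
    refine ⟨e + N, e, fun s ↦ mon s ^ e * (X j ^ e * c (Fin.cons j s)), fun s ↦ ⟨?_, ?_⟩, fun t ↦ ?_⟩
    · exact P.mul_mem_left _ (P.mul_mem_left _ (hc _).1)
    · have := ((isHomogeneous_mon (B := B) s).pow e).mul
        ((isHomogeneous_X_pow (R := B) j e).mul (hc (Fin.cons j s)).2)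
      rwa [show d + (e + N) + p * (N + e) = p * e + (e + (d + (p + 1) * N)) by ring]
    · refine ⟨0, ?_⟩
      rw [pow_zero, one_mul]
      convert he (Fin.cons j t) using 1
      have h1 : (fun s ↦ mon s ^ e * (X j ^ e * c (Fin.cons j s))) =
          shift e (fun s ↦ X j ^ e * c (Fin.cons j s)) := rfl
      rw [h1, dd_shift, dd_cons, mon_cons, dd_smul]
      simp only [shift, pow_add, mul_pow]
      ring

theorem vanish_of_forall_X_mem {P Q : Ideal S} (hP : Homog P) (hQ : Homog Q)
    (hfg : P.FG) (h : ∀ j, ∀ a ∈ P, X j * a ∈ Q) : ∃ d₀, ∀ d, d₀ ≤ d → Vanish P Q d := by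
  obtain ⟨G, hG⟩ := hfg
  refine ⟨G.sup totalDegree + 1, fun d hd p N c hc _ ↦ ?_⟩
  cases p with
  | zero =>
    intro t
    suffices ∀ a ∈ Ideal.span (G : Set S), homogeneousComponent d a ∈ Q by
      have := this (c t) (hG.symm ▸ (hc t).1)
      rwa [homogeneousComponent_eq_self (by simpa using (hc t).2)] at this
    intro a ha
    refine Submodule.span_induction (p := fun a _ ↦ ∀ s : S, homogeneousComponent d (s * a) ∈ Q)
      (fun g hg s ↦ ?_) (fun s ↦ by simp) (fun a b _ _ iha ihb s ↦ by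
        rw [mul_add, map_add]; exact Q.add_mem (iha s) (ihb s))
      (fun r a _ iha s ↦ by rw [smul_eq_mul, ← mul_assoc]; exact iha _) ha 1 |>
      (fun h ↦ by simpa using h)
    have hgP : g ∈ P := hG ▸ Submodule.subset_span hg
    have key : ∀ s : S, s * g - C (constantCoeff s) * g ∈ Q := by
      intro s
      induction s using MvPolynomial.induction_on with
      | C b => simp
      | add a b iha ihb =>
        rw [map_add, map_add, add_mul, add_mul, add_sub_add_comm]
        exact Q.add_mem iha ihb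
      | mul_X a i _ =>
        rw [map_mul, constantCoeff_X, mul_zero, map_zero, zero_mul, sub_zero, mul_assoc]
        exact Q.mul_mem_left _ (h i g hgP)
    have := hQ _ (key s) d
    rwa [map_sub, homogeneousComponent_C_mul, homogeneousComponent_eq_zero d g
      ((Finset.le_sup (f := totalDegree) hg).trans_lt hd), mul_zero, sub_zero] at this
  | succ p =>
    refine ⟨0, fun _ ↦ 0, fun _ ↦ ⟨P.zero_mem, isHomogeneous_zero _ _ _⟩, fun t ↦ ⟨1, ?_⟩⟩
    simp only [dd_zero, sub_zero, pow_one, shift, pow_zero, one_mul]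
    rw [mon_eq_mul t 0,
      mul_comm (X (t 0)) (mon _), mul_assoc]
    exact Q.mul_mem_left _ (h _ _ (hc t).1)

/-- The augmented Čech complex of `P/Q` is exact in large degrees. -/
theorem exists_vanish [IsNoetherianRing B] [Finite ι] (P Q : Ideal S) (hP : Homog P) (hQ : Homog Q) :
    ∃ d₀, ∀ d, d₀ ≤ d → Vanish P Q d := by
  classical
  cases nonempty_fintype ι
  generalize hn : (Finset.univ.filter fun j ↦ ¬ ∀ a ∈ P, X j * a ∈ Q).card = n
  induction n using Nat.strong_induction_on generalizing P Q with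
  | _ n ih =>
    by_cases hall : ∀ j, ∀ a ∈ P, X j * a ∈ Q
    · exact vanish_of_forall_X_mem hP hQ (IsNoetherian.noetherian P) hall
    push Not at hall
    obtain ⟨j, hj⟩ := hall
    have hlt : ∀ P' Q' : Ideal S, (∀ i, (∀ a ∈ P, X i * a ∈ Q) → ∀ a ∈ P', X i * a ∈ Q') →
        (∀ a ∈ P', X j * a ∈ Q') →
        (Finset.univ.filter fun i ↦ ¬ ∀ a ∈ P', X i * a ∈ Q').card < n := by
      intro P' Q' h₁ h₂
      subst hn
      refine Finset.card_lt_card ⟨fun i hi ↦ ?_, fun h ↦ ?_⟩
      · simp only [Finset.mem_filter, Finset.mem_univ, true_and] at hi ⊢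
        exact fun h ↦ hi (h₁ i h)
      · have := h (show j ∈ _ by simp only [Finset.mem_filter, Finset.mem_univ, true_and]; push Not; exact hj)
        simp only [Finset.mem_filter, Finset.mem_univ, true_and] at this
        exact this h₂
    obtain ⟨d₁, h₁⟩ := ih _ (hlt (kerX P Q j) Q (fun i hi a ha ↦ hi a (mem_kerX.1 ha).1)
      fun a ha ↦ (mem_kerX.1 ha).2) _ _ (homog_kerX hP hQ j) hQ rfl
    obtain ⟨d₂, h₂⟩ := ih _ (hlt P (imX P Q j) (fun i hi a ha ↦ (le_sup_right : Q ≤ _) (hi a ha))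
      fun a ha ↦ mem_imX.2 ⟨a, ha, 0, Q.zero_mem, add_zero _⟩) _ _ hP (homog_imX hP hQ j) rfl
    refine ⟨max d₁ d₂, fun d hd p N c hc hcd ↦ ?_⟩
    obtain ⟨m, hm⟩ := exists_bdry_pow_X_mul j hc hcd
    clear hj hn hlt ih
    induction m generalizing d c with
    | zero => simpa using hm
    | succ m ihm =>
      refine bdry_of_bdry_X_mul hP hQ j (h₁ d (le_trans (le_max_left _ _) hd))
        (h₂ (d + 1) ((le_max_right _ _).trans (hd.trans d.le_succ))) hc hcd
        (ihm (d + 1) (hd.trans d.le_succ) _ (fun t ↦ ⟨P.mul_mem_left _ (hc t).1, ?_⟩) ?_ ?_)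
      · rw [show d + 1 + p * N = 1 + (d + p * N) by ring]
        exact (isHomogeneous_X B j).mul (hc t).2
      · rw [dd_smul]
        exact hcd.smul (X j)
      · rw [show d + 1 + m = d + (m + 1) by ring]
        simpa [pow_succ, mul_assoc] using hm

end GrothLib.GrCech
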